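import Cfsg.Agent.H395.TI34.Main
import Cfsg.Agent.H41.TI.Clif
import Cfsg.Agent.S0848

/-!
# Row `PSL₃(4)` of S4819, S4820, piece c : final form
-/

set_option autoImplicit false

namespace Cfsg.Agent.H395.TI34

open Cfsg Cfsg.Agent.H155.TI Cfsg.Agent.Characters.Central Cfsg.Agent.Characters.Core
open scoped ComplexConjugate

universe u

variable {Z A W : Type u} [Group Z] [Group A] [Group W] [Finite W]

theorem lam_conj [Finite Z] (lam : Z →* ℂˣ) (z : Z) : ((lam z : ℂˣ) : ℂ) * conj ((lam z : ℂˣ) : ℂ) = 1 := by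
  have h1 : ((lam z : ℂˣ) : ℂ) ^ Nat.card Z = 1 := by
    rw [← Units.val_pow_eq_pow_val, ← map_pow, pow_card_eq_one', map_one, Units.val_one]
  have h2 : ‖(lam z : ℂ)‖ = 1 := Complex.norm_eq_one_of_pow_eq_one h1 Nat.card_pos.ne'
  rw [Complex.mul_conj, Complex.normSq_eq_norm_sq, h2]
  norm_num

/-- `col_self` (piece b), the version in which `y` is not conjugate to `z y` for `z ≠ 1` -/
theorem col_self_one {j : Z →* W} (hj : Function.Injective j) (hZ : ∀ z w, j z * w = w * j z) (lam : Z →* ℂˣ) (y : W)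
    (hy : ∀ z : Z, IsConj y (j z * y) → z = 1) [Fintype {χ : IrrCharacter W // Over j lam (χ : W → ℂ)}] :
    (Nat.card Z : ℂ) * ∑ χ : {χ : IrrCharacter W // Over j lam (χ : W → ℂ)}, (χ.1 : W → ℂ) y * conj ((χ.1 : W → ℂ) y) =
      Nat.card (Subgroup.centralizer ({y} : Set W)) := by
  classical
  haveI : Finite Z := Finite.of_injective j hj
  letI : Fintype Z := Fintype.ofFinite Z
  haveI : Finite (IrrCharacter W) := finite_irr
  letI : Fintype (IrrCharacter W) := Fintype.ofFinite _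
  have h1 : ∑ z : Z, conj ((lam z : ℂˣ) : ℂ) * ∑ χ : IrrCharacter W, (χ : W → ℂ) (j z * y) * conj ((χ : W → ℂ) y) =
      Nat.card (Subgroup.centralizer ({y} : Set W)) := by
    rw [Finset.sum_eq_single 1]
    · rw [map_one, map_one, one_mul, Units.val_one, map_one, one_mul, ← S0848.column_orth]
      congr 1
      apply Nat.card_congr
      refine ⟨fun a => ⟨a.1, ?_⟩, fun a => ⟨a.1, ?_⟩, fun a => rfl, fun a => rfl⟩
      · rw [Subgroup.mem_centralizer_singleton_iff]
        exact mul_inv_eq_iff_eq_mul.1 a.2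
      · have := Subgroup.mem_centralizer_singleton_iff.1 a.2
        exact mul_inv_eq_iff_eq_mul.2 this
    · intro z _ hz
      rw [← S0848.column_orth]
      have h2 : IsEmpty {a : W // a * (j z * y) * a⁻¹ = y} := by
        constructor
        rintro ⟨a, ha⟩
        apply hz
        apply hy
        rw [isConj_comm, isConj_iff]
        exact ⟨a, ha⟩
      rw [Nat.card_of_isEmpty, Nat.cast_zero, mul_zero]
    · intro h2
      exact absurd (Finset.mem_univ _) h2
  rw [← h1]
  simp only [Finset.mul_sum]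
  rw [Finset.sum_comm]
  have h3 : ∀ χ : IrrCharacter W, ∑ z : Z, conj ((lam z : ℂˣ) : ℂ) * ((χ : W → ℂ) (j z * y) * conj ((χ : W → ℂ) y)) =
      if Over j lam (χ : W → ℂ) then (Nat.card Z : ℂ) * ((χ : W → ℂ) y * conj ((χ : W → ℂ) y)) else 0 := by
    intro χ
    split_ifs with ho
    · have h4 : ∀ z : Z, conj ((lam z : ℂˣ) : ℂ) * ((χ : W → ℂ) (j z * y) * conj ((χ : W → ℂ) y)) =
          (χ : W → ℂ) y * conj ((χ : W → ℂ) y) := by
        intro z
        rw [ho]
        linear_combination ((χ : W → ℂ) y * conj ((χ : W → ℂ) y)) * lam_conj lam z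
      rw [Finset.sum_congr rfl (fun z _ => h4 z), Finset.sum_const, Finset.card_univ, nsmul_eq_mul,
        Nat.card_eq_fintype_card]
    · set S : W → ℂ := fun w => ∑ z : Z, conj ((lam z : ℂˣ) : ℂ) * (χ : W → ℂ) (j z * w) with hS
      have h4 : S y = 0 := by
        by_contra hne
        apply ho
        intro z0 w
        have h5 : S (j z0 * y) = ((lam z0 : ℂˣ) : ℂ) * S y := by
          simp only [hS]
          rw [Finset.mul_sum]
          apply Fintype.sum_equiv (Equiv.mulRight z0)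
          intro z
          change conj ((lam z : ℂˣ) : ℂ) * (χ : W → ℂ) (j z * (j z0 * y)) =
            ((lam z0 : ℂˣ) : ℂ) * (conj ((lam (z * z0) : ℂˣ) : ℂ) * (χ : W → ℂ) (j (z * z0) * y))
          rw [map_mul, map_mul, Units.val_mul, map_mul, mul_assoc (j z)]
          linear_combination -(conj ((lam z : ℂˣ) : ℂ) * (χ : W → ℂ) (j z * (j z0 * y))) * lam_conj lam z0
        have h6 : S (j z0 * y) * (χ : W → ℂ) 1 = (χ : W → ℂ) (j z0) * S y := by
          simp only [hS]
          rw [Finset.sum_mul, Finset.mul_sum]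
          apply Finset.sum_congr rfl
          intro z _
          have h7 := irr_central χ (j z0) (hZ z0) (j z * y)
          have h8 : j z * (j z0 * y) = j z0 * (j z * y) := by rw [← mul_assoc, ← mul_assoc, hZ z (j z0)]
          rw [h8]
          linear_combination (conj ((lam z : ℂˣ) : ℂ)) * h7
        rw [h5] at h6
        have h9 : (χ : W → ℂ) (j z0) = ((lam z0 : ℂˣ) : ℂ) * (χ : W → ℂ) 1 := by
          apply mul_right_cancel₀ hne
          linear_combination -h6
        have h10 := irr_central χ (j z0) (hZ z0) w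
        rw [h9] at h10
        apply mul_right_cancel₀ (irr_one_ne χ)
        linear_combination h10
      have h5 : ∑ z : Z, conj ((lam z : ℂˣ) : ℂ) * ((χ : W → ℂ) (j z * y) * conj ((χ : W → ℂ) y)) =
          S y * conj ((χ : W → ℂ) y) := by
        simp only [hS]
        rw [Finset.sum_mul]
        apply Finset.sum_congr rfl
        intro z _
        ring
      rw [h5, h4, zero_mul]
  rw [Finset.sum_congr rfl (fun χ _ => h3 χ), ← Finset.sum_filter]
  symm
  apply Finset.sum_subtype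
  intro χ
  simp

variable {j : Z →* A} {i : A →* W} {lam : Z →* ℂˣ} {x : A} {c d : W} {zc : Z} {m : ℂ} {n : ℕ}

theorem colSelf (h : Pair j i) (e : Elt j i lam x c d zc m n) : ColSelf (i.comp j) lam (i x * c) := by
  intro _
  exact col_self_one (j := i.comp j) (h.ii.comp h.ji) h.cen lam (i x * c) e.good

theorem resCases (h : Pair j i) (e : Elt j i lam x c d zc m n) : ResCases i c :=
  fun χ => Cfsg.Agent.H41.TI.res_cases h e.cA χ

theorem existsExt (h : Pair j i) (e : Elt j i lam x c d zc m n) : ExistsExt i c :=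
  fun η hη => Cfsg.Agent.H41.TI.exists_ext h e.cA η hη

/-- **L34-c**, `two3` -/
theorem two3 (h : Pair j i) (e : Elt j i lam x c d zc m 3) (s : Six j lam x) :
    Nat.card {η : IrrCharacter A // Over j lam (η : A → ℂ) ∧ (η : A → ℂ) x ≠ 0 ∧ Inv i c (η : A → ℂ)} = 4 ∧
      ∀ χ : IrrCharacter W, Over (i.comp j) lam (χ : W → ℂ) → (χ : W → ℂ) (i x) ^ 2 = 4 →
        (χ : W → ℂ) (i x * c) = 0 :=
  two3_of h e s (resCases h e) (existsExt h e) (colSelf h e)

/-- **L34-c**, `two9` -/
theorem two9 (h : Pair j i) (e : Elt j i lam x c d zc m 9) (s : Six j lam x) :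
    (Nat.card {η : IrrCharacter A // Over j lam (η : A → ℂ) ∧ (η : A → ℂ) x ≠ 0 ∧ Inv i c (η : A → ℂ)} = 6 ∧
      ∀ χ : IrrCharacter W, Over (i.comp j) lam (χ : W → ℂ) → (χ : W → ℂ) (i x) ≠ 0 →
        ∃ k : ℤ, (χ : W → ℂ) (i x * c) = m * k ∧ ¬ 3 ∣ k) ∨
    (Nat.card {η : IrrCharacter A // Over j lam (η : A → ℂ) ∧ (η : A → ℂ) x ≠ 0 ∧ Inv i c (η : A → ℂ)} = 2 ∧
      ∀ χ : IrrCharacter W, Over (i.comp j) lam (χ : W → ℂ) →
        ((χ : W → ℂ) (i x * c) = 0 ∨ (χ : W → ℂ) (i x * c) = 3 * m ∨ (χ : W → ℂ) (i x * c) = -(3 * m)) ∧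
        (IsIrrCharacter A (fun t => (χ : W → ℂ) (i t)) → (χ : W → ℂ) (i x) ^ 2 = 1 → (χ : W → ℂ) (i x * c) ≠ 0) ∧
        ((χ : W → ℂ) (i x) ^ 2 = 4 → (χ : W → ℂ) (i x * c) = 0)) :=
  two9_of h e s (resCases h e) (existsExt h e) (colSelf h e)

end Cfsg.Agent.H395.TI34
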