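import Cfsg.Agent.H155.TI.Defs
import Cfsg.Agent.Characters.Central
import Cfsg.Agent.HKS.ModPSpec

/-!
# Row `PSL₃(4)` of S4819, S4820, piece c : the integers `u`, `v`, `p`, `q`
-/

set_option autoImplicit false

namespace Cfsg.Agent.H395.TI34

open Cfsg Cfsg.Agent.H155.TI Cfsg.Agent.Characters.Central Cfsg.Agent.HKS.ModPSpec

section Op

variable {V : Type*} [AddCommGroup V] [Module ℂ V] [FiniteDimensional ℂ V]

theorem op_half (C : Module.End ℂ V) (hC : C * C = 1) (s : ℂ) (hs : s * s = 1) :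
    ∃ a : ℕ, LinearMap.trace ℂ V 1 + s * LinearMap.trace ℂ V C = 2 * a := by
  have hE : ((1 / 2 : ℂ) • (1 + s • C)) * ((1 / 2 : ℂ) • (1 + s • C)) = (1 / 2 : ℂ) • (1 + s • C) := by
    have h1 : ((1 / 2 : ℂ) • (1 + s • C)) * ((1 / 2 : ℂ) • (1 + s • C)) =
        (1 / 4 : ℂ) • ((1 : Module.End ℂ V) + (2 * s) • C + (s * s) • (C * C)) := by
      simp only [smul_mul_assoc, mul_smul_comm, mul_add, add_mul, mul_one, one_mul, smul_add, smul_smul]
      module
    rw [h1, hC, hs]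
    module
  obtain ⟨a, ha⟩ := exists_nat_trace _ hE
  refine ⟨a, ?_⟩
  rw [map_smul, map_add, map_smul, smul_eq_mul, smul_eq_mul] at ha
  linear_combination 2 * ha

theorem op_sixth (C X : Module.End ℂ V) (hC : C * C = 1) (hX : X * X * X = 1) (hCX : C * X = X * C)
    (h1 : LinearMap.trace ℂ V (X * X) = LinearMap.trace ℂ V X)
    (h2 : LinearMap.trace ℂ V (C * (X * X)) = LinearMap.trace ℂ V (C * X)) (s : ℂ) (hs : s * s = 1) :
    ∃ a : ℕ, LinearMap.trace ℂ V 1 - LinearMap.trace ℂ V X +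
      s * (LinearMap.trace ℂ V C - LinearMap.trace ℂ V (C * X)) = 6 * a := by
  obtain ⟨w, hw⟩ := IsAlgClosed.exists_pow_nat_eq (-3 : ℂ) (n := 2) (by norm_num)
  set ω : ℂ := (-1 + w) / 2 with hω
  have hq : ω * ω + ω + 1 = 0 := by rw [hω]; linear_combination hw / 4
  have h3 : ω * ω * ω = 1 := by linear_combination (ω - 1) * hq
  set F : Module.End ℂ V := (1 / 3 : ℂ) • (1 + (ω * ω) • X + ω • (X * X)) with hF
  have hXX : X * (X * X) = 1 := by rw [← mul_assoc]; exact hX
  have hX4 : (X * X) * (X * X) = X := by rw [mul_assoc, hXX, mul_one]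
  have hX3 : X * X * X = 1 := hX
  have hFF : F * F = F := by
    have e1 : F * F = (1 / 9 : ℂ) • ((1 : Module.End ℂ V) + (2 * (ω * ω)) • X + (2 * ω) • (X * X) +
        (ω * ω * (ω * ω)) • (X * X) + (ω * ω * ω) • (X * (X * X)) + (ω * (ω * ω)) • (X * X * X) +
        (ω * ω) • ((X * X) * (X * X))) := by
      rw [hF]
      simp only [smul_mul_assoc, mul_smul_comm, mul_add, add_mul, mul_one, one_mul, smul_add, smul_smul]
      module
    rw [e1, hXX, hX4, hX3, hF]
    have e2 : ω * ω * (ω * ω) = ω := by linear_combination ω * h3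
    have e3 : ω * (ω * ω) = 1 := by linear_combination h3
    rw [e2, e3, h3]
    module
  have hcF : C * F = F * C := by
    rw [hF]
    have e1 : C * (X * X) = (X * X) * C := by rw [← mul_assoc, hCX, mul_assoc, hCX, mul_assoc]
    simp only [smul_mul_assoc, mul_smul_comm, mul_add, add_mul, mul_one, one_mul]
    rw [e1, hCX]
  set D : Module.End ℂ V := (1 / 2 : ℂ) • (1 + s • C) with hD
  have hDD : D * D = D := by
    have h1 : D * D = (1 / 4 : ℂ) • ((1 : Module.End ℂ V) + (2 * s) • C + (s * s) • (C * C)) := by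
      rw [hD]
      simp only [smul_mul_assoc, mul_smul_comm, mul_add, add_mul, mul_one, one_mul, smul_add, smul_smul]
      module
    rw [h1, hC, hs, hD]
    module
  have hDF : D * F = F * D := by
    rw [hD]
    simp only [smul_mul_assoc, mul_smul_comm, mul_add, add_mul, mul_one, one_mul]
    rw [hcF]
  have hE : (D * F) * (D * F) = D * F := by
    rw [mul_assoc, ← mul_assoc F, ← hDF, mul_assoc D F F, hFF, ← mul_assoc, hDD]
  obtain ⟨a, ha⟩ := exists_nat_trace _ hE
  refine ⟨a, ?_⟩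
  have e4 : D * F = (1 / 6 : ℂ) • ((1 : Module.End ℂ V) + (ω * ω) • X + ω • (X * X) + s • C +
      (s * (ω * ω)) • (C * X) + (s * ω) • (C * (X * X))) := by
    rw [hD, hF]
    simp only [smul_mul_assoc, mul_smul_comm, mul_add, add_mul, mul_one, one_mul, smul_add, smul_smul]
    module
  rw [e4] at ha
  simp only [map_smul, map_add, smul_eq_mul] at ha
  rw [h1, h2] at ha
  linear_combination 6 * ha - (LinearMap.trace ℂ V X + s * LinearMap.trace ℂ V (C * X)) * hq

theorem op_uv (C X : Module.End ℂ V) (hC : C * C = 1) (hX : X * X * X = 1) (hCX : C * X = X * C)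
    (h1 : LinearMap.trace ℂ V (X * X) = LinearMap.trace ℂ V X)
    (h2 : LinearMap.trace ℂ V (C * (X * X)) = LinearMap.trace ℂ V (C * X)) :
    ∃ u v p q : ℤ, LinearMap.trace ℂ V 1 = p + q ∧ LinearMap.trace ℂ V C = p - q ∧
      LinearMap.trace ℂ V X = u + v ∧ LinearMap.trace ℂ V (C * X) = u - v ∧ 3 ∣ u - p ∧ 3 ∣ v - q := by
  obtain ⟨p, hp⟩ := op_half C hC 1 (by norm_num)
  obtain ⟨q, hq⟩ := op_half C hC (-1) (by norm_num)
  obtain ⟨a, ha⟩ := op_sixth C X hC hX hCX h1 h2 1 (by norm_num)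
  obtain ⟨b, hb⟩ := op_sixth C X hC hX hCX h1 h2 (-1) (by norm_num)
  refine ⟨p - 3 * a, q - 3 * b, p, q, ?_, ?_, ?_, ?_, ⟨-a, by ring⟩, ⟨-b, by ring⟩⟩
  · push_cast
    linear_combination (hp + hq) / 2
  · push_cast
    linear_combination (hp - hq) / 2
  · push_cast
    linear_combination (hp + hq - ha - hb) / 2
  · push_cast
    linear_combination (hp - hq - ha + hb) / 2

end Op

universe u

variable {Z A W : Type u} [Group Z] [Group A] [Group W] [Finite W] {j : Z →* A} {i : A →* W} {lam : Z →* ℂˣ}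
  {x : A} {c d : W} {zc : Z} {m : ℂ} {n : ℕ}

theorem m_ne_zero (e : Elt j i lam x c d zc m n) : m ≠ 0 := by
  intro h
  have h1 := e.mm
  rw [h] at h1
  exact (lam zc).ne_zero (by rw [← h1]; norm_num)

/-- **L34-c**: the integers `u`, `v`, `p`, `q` -/
theorem uv (h : Pair j i) (e : Elt j i lam x c d zc m n) (χ : IrrCharacter W) (hχ : Over (i.comp j) lam (χ : W → ℂ)) :
    ∃ u v p q : ℤ, (χ : W → ℂ) 1 = p + q ∧ (χ : W → ℂ) c = m * (p - q) ∧ (χ : W → ℂ) (i x) = u + v ∧
      (χ : W → ℂ) (i x * c) = m * (u - v) ∧ 3 ∣ u - p ∧ 3 ∣ v - q := by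
  obtain ⟨χ, k, ρ, hρ, rfl⟩ := χ
  have hm := m_ne_zero e
  have hz : ∀ z : Z, ρ (i (j z)) = (lam z : ℂ) • (1 : Module.End ℂ (Fin k → ℂ)) := by
    intro z
    have h1 := eq_trace_smul_of_comm ρ hρ (ρ (i (j z))) (fun g => by
      rw [← map_mul, ← map_mul, h.cen])
    have h2 : LinearMap.trace ℂ (Fin k → ℂ) (ρ (i (j z))) = (lam z : ℂ) * ρ.character 1 := by
      have h3 := hχ z 1
      rw [mul_one] at h3
      exact h3
    rw [h2, mul_div_assoc, div_self (char_one_ne_zero ρ hρ), mul_one] at h1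
    exact h1
  have hm2 : m * m = (lam zc : ℂ) := by rw [← e.mm]; ring
  set C : Module.End ℂ (Fin k → ℂ) := m⁻¹ • ρ c with hCdef
  set X : Module.End ℂ (Fin k → ℂ) := ρ (i x) with hXdef
  have hC : C * C = 1 := by
    rw [hCdef]
    simp only [smul_mul_assoc, mul_smul_comm, smul_smul]
    rw [← map_mul, e.cc, hz, smul_smul, ← hm2]
    have : m⁻¹ * m⁻¹ * (m * m) = 1 := by field_simp
    rw [this, one_smul]
  have hX : X * X * X = 1 := by
    rw [hXdef, ← map_mul, ← map_mul, ← map_mul, ← map_mul]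
    have : x * x * x = 1 := by rw [← e.x3]; simp [pow_succ]
    rw [this, map_one, map_one]
  have hCX : C * X = X * C := by
    rw [hCdef, hXdef]
    simp only [smul_mul_assoc, mul_smul_comm]
    rw [← map_mul, ← map_mul, e.cx]
  have hx2 : i x * i x = (i x)⁻¹ := by
    rw [← map_mul, ← map_inv]
    congr 1
    rw [eq_inv_iff_mul_eq_one, ← e.x3]
    simp [pow_succ]
  have hcl : ∀ g y : W, ρ.character (g * y * g⁻¹) = ρ.character y := fun g y => Representation.char_conj ρ y g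
  have h1 : LinearMap.trace ℂ _ (X * X) = LinearMap.trace ℂ _ X := by
    rw [hXdef, ← map_mul, hx2, ← e.dx]
    exact hcl d (i x)
  have hcd : d * (c * i x) * d⁻¹ = c * (i x * i x) := by
    rw [hx2, ← e.dx, ← mul_assoc d c, e.dc]
    group
  have h2 : LinearMap.trace ℂ _ (C * (X * X)) = LinearMap.trace ℂ _ (C * X) := by
    rw [hCdef, hXdef]
    simp only [smul_mul_assoc, map_smul]
    rw [← map_mul ρ, ← map_mul ρ, ← map_mul ρ, ← hcd]
    congr 1
    exact hcl d (c * i x)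
  obtain ⟨u, v, p, q, a1, a2, a3, a4, a5, a6⟩ := op_uv C X hC hX hCX h1 h2
  refine ⟨u, v, p, q, ?_, ?_, a3, ?_, a5, a6⟩
  · rw [← a1]
    exact congrArg _ (map_one ρ)
  · rw [← a2, hCdef, map_smul, smul_eq_mul, ← mul_assoc, mul_inv_cancel₀ hm, one_mul]
    rfl
  · rw [← a4, hCdef, hXdef, smul_mul_assoc, ← map_mul, map_smul, smul_eq_mul, ← mul_assoc, mul_inv_cancel₀ hm,
      one_mul, e.cx]
    rfl

end Cfsg.Agent.H395.TI34
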