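import Mathlib

/-!
# Row `PSL₃(4)` of S4819, S4820, piece c : a small counting lemma
-/

set_option autoImplicit false

namespace Cfsg.Agent.H395.TI34

theorem odd_sq (a : ℤ) (h : Odd a) : ∃ t : ℕ, a ^ 2 = 1 + 8 * t := by
  obtain ⟨b, rfl⟩ := h
  obtain ⟨r, hr⟩ := Int.even_mul_succ_self b
  have h0 : 0 ≤ r := by nlinarith [sq_nonneg (2 * b + 1)]
  refine ⟨r.toNat, ?_⟩
  rw [Int.toNat_of_nonneg h0]
  linear_combination 4 * hr

theorem comb {I : Type*} [Fintype I] [DecidableEq I] (δ : I → ℤ) (s : I) (k : ℕ) (hk : Fintype.card I = k + 1)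
    (hko : Odd k) (hk5 : k ≤ 5) (he : Even (δ s)) (ho : ∀ η, η ≠ s → Odd (δ η)) (n : ℕ) (hs : ∑ η, δ η ^ 2 = n) :
    (n = 3 → Fintype.card I = 4 ∧ δ s = 0) ∧
    (n = 9 → (Fintype.card I = 6 ∧ ∀ η, ¬ (3 : ℤ) ∣ δ η) ∨
      (Fintype.card I = 2 ∧ δ s = 0 ∧ ∀ η, η ≠ s → δ η = 3 ∨ δ η = -3)) := by
  obtain ⟨y, hy⟩ := he
  have h1 : ∀ η, ∃ t : ℕ, η ≠ s → δ η ^ 2 = 1 + 8 * (t : ℤ) := by
    intro η
    by_cases h : η = s
    · exact ⟨0, fun h' => absurd h h'⟩
    · obtain ⟨t, ht⟩ := odd_sq _ (ho η h)
      exact ⟨t, fun _ => ht⟩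
  choose t ht using h1
  have h2 : ∑ η, δ η ^ 2 = δ s ^ 2 + ∑ η ∈ Finset.univ.erase s, δ η ^ 2 := by
    exact (Finset.add_sum_erase Finset.univ (fun η => δ η ^ 2) (Finset.mem_univ s)).symm
  have h3 : ∑ η ∈ Finset.univ.erase s, δ η ^ 2 = k + 8 * ((∑ η ∈ Finset.univ.erase s, t η : ℕ) : ℤ) := by
    rw [Finset.sum_congr rfl (fun η hη => ht η (Finset.ne_of_mem_erase hη)), Finset.sum_add_distrib]
    rw [Finset.sum_const, Finset.card_erase_of_mem (Finset.mem_univ s), Finset.card_univ, hk, ← Finset.mul_sum,
      Nat.cast_sum]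
    simp
  set T : ℕ := ∑ η ∈ Finset.univ.erase s, t η with hT
  have h4 : (n : ℤ) = 4 * y ^ 2 + k + 8 * T := by
    rw [← hs, h2, h3, hy]; ring
  have hy0 : 0 ≤ y ^ 2 := sq_nonneg y
  have hle : ∀ η, η ≠ s → t η ≤ T := fun η hη =>
    Finset.single_le_sum (f := t) (fun _ _ => Nat.zero_le _) (Finset.mem_erase.2 ⟨hη, Finset.mem_univ η⟩)
  obtain ⟨b, hb⟩ := hko
  constructor
  · rintro rfl
    push_cast at h4
    have hy1 : y ^ 2 = 0 := by omega
    have hy' : y = 0 := by nlinarith
    refine ⟨by omega, by rw [hy, hy']; norm_num⟩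
  · rintro rfl
    push_cast at h4
    have hy2 : y ^ 2 ≤ 2 := by omega
    have hy3 : y ^ 2 = 0 ∨ y ^ 2 = 1 := by
      have : y ≤ 1 := by nlinarith
      have : -1 ≤ y := by nlinarith
      interval_cases y <;> norm_num
    have hb3 : b = 0 ∨ b = 1 ∨ b = 2 := by omega
    rcases hb3 with rfl | rfl | rfl
    · -- k = 1
      right
      have hk1 : k = 1 := by omega
      subst hk1
      rcases hy3 with h | h
      · have hT1 : T = 1 := by push_cast at h4; omega
        have hy' : y = 0 := by nlinarith
        refine ⟨hk, by rw [hy, hy']; norm_num, fun η hη => ?_⟩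
        -- the only other one
        have h5 : ∀ η', η' ∈ Finset.univ.erase s → η' = η := by
          intro η' h'
          have : (Finset.univ.erase s).card = 1 := by
            rw [Finset.card_erase_of_mem (Finset.mem_univ s), Finset.card_univ, hk]
          obtain ⟨a, ha⟩ := Finset.card_eq_one.1 this
          have e1 : η' ∈ ({a} : Finset I) := ha ▸ h'
          have e2 : η ∈ ({a} : Finset I) := ha ▸ (Finset.mem_erase.2 ⟨hη, Finset.mem_univ η⟩)
          rw [Finset.mem_singleton.1 e1, Finset.mem_singleton.1 e2]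
        have h6 : T = t η := by
          rw [hT]
          apply Finset.sum_eq_single η
          · intro b hb hne
            exact absurd (h5 b hb) hne
          · intro h'
            exact absurd (Finset.mem_erase.2 ⟨hη, Finset.mem_univ η⟩) h'
        have h7 := ht η hη
        rw [← h6, hT1] at h7
        have h8 : (δ η - 3) * (δ η + 3) = 0 := by push_cast at h7; linear_combination h7
        rcases mul_eq_zero.1 h8 with h9 | h9
        · left; omega
        · right; omega
      · exfalso
        push_cast at h4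
        omega
    · exfalso
      omega
    · left
      have hk1 : k = 5 := by omega
      subst hk1
      rcases hy3 with h | h
      · exfalso
        push_cast at h4
        omega
      · have hT1 : T = 0 := by push_cast at h4; omega
        refine ⟨hk, fun η hd => ?_⟩
        by_cases hη : η = s
        · subst hη
          obtain ⟨r, hr⟩ := hd
          have e1 : y = 1 ∨ y = -1 := by
            have : (y - 1) * (y + 1) = 0 := by linear_combination h
            rcases mul_eq_zero.1 this with h9 | h9
            · left; omega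
            · right; omega
          rcases e1 with h | h <;> omega
        · have h7 := ht η hη
          have h8 : t η = 0 := by have := hle η hη; omega
          rw [h8] at h7
          obtain ⟨r, hr⟩ := hd
          rw [hr] at h7
          push_cast at h7
          have : 9 * r ^ 2 = 1 := by linear_combination h7
          omega

end Cfsg.Agent.H395.TI34
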