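import Cfsg.Agent.H395.TI34.Two

/-!
# Row `PSL₃(4)` of S4819, S4820, piece c : `two3`, `two9` from the pieces a, b
-/

set_option autoImplicit false

namespace Cfsg.Agent.H395.TI34

open Cfsg Cfsg.Agent.H155.TI Cfsg.Agent.Characters.Central Cfsg.Agent.Characters.Core
open scoped ComplexConjugate

universe u

variable {Z A W : Type u} [Group Z] [Group A] [Group W] [Finite W] {j : Z →* A} {i : A →* W} {lam : Z →* ℂˣ}
  {x : A} {c d : W} {zc : Z} {m : ℂ} {n : ℕ}

/-- `res_cases` (piece a) -/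
def ResCases (i : A →* W) (c : W) : Prop :=
  ∀ χ : IrrCharacter W,
    (IsIrrCharacter A (fun t => (χ : W → ℂ) (i t)) ∧ Inv i c (fun t => (χ : W → ℂ) (i t))) ∨
    ((∀ w, w ∉ i.range → (χ : W → ℂ) w = 0) ∧ ∃ η η' : IrrCharacter A, η ≠ η' ∧
      (∀ t, (χ : W → ℂ) (i t) = (η : A → ℂ) t + (η' : A → ℂ) t) ∧
      (∀ t t', i t' = c * i t * c⁻¹ → (η : A → ℂ) t' = (η' : A → ℂ) t) ∧ ¬ Inv i c (η : A → ℂ))

/-- `exists_ext` (piece a) -/
def ExistsExt (i : A →* W) (c : W) : Prop :=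
  ∀ η : IrrCharacter A, Inv i c (η : A → ℂ) →
    ∃ χ χ' : IrrCharacter W, χ ≠ χ' ∧ (∀ t, (χ : W → ℂ) (i t) = (η : A → ℂ) t) ∧ (∀ t, (χ' : W → ℂ) (i t) = (η : A → ℂ) t) ∧
      (∀ w, w ∉ i.range → (χ' : W → ℂ) w = - (χ : W → ℂ) w) ∧
      (∀ ψ : IrrCharacter W, (∀ t, (ψ : W → ℂ) (i t) = (η : A → ℂ) t) → ψ = χ ∨ ψ = χ')

/-- `col_self` (piece b) for `y = x c` -/
def ColSelf (j : Z →* W) (lam : Z →* ℂˣ) (y : W) : Prop :=
  ∀ [Fintype {χ : IrrCharacter W // Over j lam (χ : W → ℂ)}],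
    (Nat.card Z : ℂ) * ∑ χ : {χ : IrrCharacter W // Over j lam (χ : W → ℂ)}, (χ.1 : W → ℂ) y * conj ((χ.1 : W → ℂ) y) =
      Nat.card (Subgroup.centralizer ({y} : Set W))

theorem xc_notMem (e : Elt j i lam x c d zc m n) : i x * c ∉ i.range := by
  intro h
  apply e.cA
  have h1 := i.range.mul_mem (i.range.inv_mem ⟨x, rfl⟩) h
  rwa [inv_mul_cancel_left] at h1

theorem m_norm (h : Pair j i) (e : Elt j i lam x c d zc m n) : m * conj m = 1 := by
  haveI : Finite Z := Finite.of_injective (i.comp j) (h.ii.comp h.ji)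
  have h1 : ((lam zc : ℂˣ) : ℂ) ^ Nat.card Z = 1 := by
    rw [← Units.val_pow_eq_pow_val, ← map_pow, pow_card_eq_one', map_one, Units.val_one]
  have h2 : ‖(lam zc : ℂ)‖ = 1 := Complex.norm_eq_one_of_pow_eq_one h1 Nat.card_pos.ne'
  have h3 : ‖m‖ ^ 2 = 1 := by rw [← norm_pow, e.mm, h2]
  rw [Complex.mul_conj, Complex.normSq_eq_norm_sq, h3]
  norm_num

/-- the value at `x c` is `m δ`, `δ ≡ χ(x)` mod 2 -/
theorem exists_delta (h : Pair j i) (e : Elt j i lam x c d zc m n) (χ : IrrCharacter W)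
    (hχ : Over (i.comp j) lam (χ : W → ℂ)) :
    ∃ δ w : ℤ, (χ : W → ℂ) (i x * c) = m * δ ∧ (χ : W → ℂ) (i x) = w ∧ Even (w - δ) := by
  obtain ⟨u, v, p, q, -, -, h1, h2, -, -⟩ := uv h e χ hχ
  exact ⟨u - v, u + v, by rw [h2]; push_cast; ring, by rw [h1]; push_cast; ring, ⟨v, by ring⟩⟩

/-- the main count -/
theorem main_count (h : Pair j i) (e : Elt j i lam x c d zc m n) (s : Six j lam x) (hres : ResCases i c)
    (hext : ExistsExt i c) (hcol : ColSelf (i.comp j) lam (i x * c)) :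
    ∃ (k : ℕ) (t : IA j i lam x c) (δ : IA j i lam x c → ℤ), Nat.card (IA j i lam x c) = k + 1 ∧
      (n = 3 → Nat.card (IA j i lam x c) = 4 ∧ δ t = 0) ∧
      (n = 9 → (Nat.card (IA j i lam x c) = 6 ∧ k = 5 ∧ ∀ η, ¬ (3 : ℤ) ∣ δ η) ∨
        (Nat.card (IA j i lam x c) = 2 ∧ δ t = 0 ∧ ∀ η, η ≠ t → δ η = 3 ∨ δ η = -3)) ∧
      (∀ (η : IA j i lam x c) (χ : IrrCharacter W), (∀ a, (χ : W → ℂ) (i a) = (η.1 : A → ℂ) a) →
        (χ : W → ℂ) (i x * c) = m * δ η ∨ (χ : W → ℂ) (i x * c) = - (m * δ η)) ∧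
      ((t.1 : A → ℂ) x = 2 ∨ (t.1 : A → ℂ) x = -2) ∧
      (∀ η : IA j i lam x c, η ≠ t → (η.1 : A → ℂ) x = 1 ∨ (η.1 : A → ℂ) x = -1) ∧
      (k = 5 → ∀ η : IrrCharacter A, Over j lam (η : A → ℂ) → (η : A → ℂ) x ≠ 0 → Inv i c (η : A → ℂ)) := by
  classical
  haveI : Finite A := Finite.of_injective i h.ii
  haveI : Finite Z := Finite.of_injective (i.comp j) (h.ii.comp h.ji)
  haveI : Finite (IrrCharacter A) := finite_irr
  haveI : Finite (IrrCharacter W) := finite_irr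
  obtain ⟨k, t, hk, hko, hk5, ht, hother, hall⟩ := count_A (lam := lam) (zc := zc) h e.cx e.cc s
  letI : Fintype (IA j i lam x c) := Fintype.ofFinite _
  letI : Fintype {χ : IrrCharacter W // Over (i.comp j) lam (χ : W → ℂ)} := Fintype.ofFinite _
  have hm := m_norm h e
  have hm0 := m_ne_zero e
  have hxc := xc_notMem e
  -- the extensions
  have h1 : ∀ η : IA j i lam x c, ∃ χ χ' : IrrCharacter W, χ ≠ χ' ∧ (∀ t, (χ : W → ℂ) (i t) = (η.1 : A → ℂ) t) ∧
      (∀ t, (χ' : W → ℂ) (i t) = (η.1 : A → ℂ) t) ∧ (χ' : W → ℂ) (i x * c) = - (χ : W → ℂ) (i x * c) ∧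
      (∀ ψ : IrrCharacter W, (∀ t, (ψ : W → ℂ) (i t) = (η.1 : A → ℂ) t) → ψ = χ ∨ ψ = χ') := by
    intro η
    obtain ⟨χ, χ', a1, a2, a3, a4, a5⟩ := hext η.1 η.2.2.2
    exact ⟨χ, χ', a1, a2, a3, a4 _ hxc, a5⟩
  choose X X' hne hX hX' hneg huniq using h1
  have h2 : ∀ η : IA j i lam x c, ∃ δ w : ℤ, (X η : W → ℂ) (i x * c) = m * δ ∧ (X η : W → ℂ) (i x) = w ∧
      Even (w - δ) := fun η => exists_delta h e (X η) (over_of_ext h _ η.1 (hX η) η.2.1)
  choose δ w hδ hw hpar using h2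
  -- the injection
  let E : IA j i lam x c × Bool → {χ : IrrCharacter W // Over (i.comp j) lam (χ : W → ℂ)} := fun p =>
    if p.2 then ⟨X p.1, over_of_ext h _ p.1.1 (hX p.1) p.1.2.1⟩ else ⟨X' p.1, over_of_ext h _ p.1.1 (hX' p.1) p.1.2.1⟩
  have hE1 : ∀ η, (E (η, true)).1 = X η := fun η => rfl
  have hE2 : ∀ η, (E (η, false)).1 = X' η := fun η => rfl
  have hEr : ∀ p a, ((E p).1 : W → ℂ) (i a) = (p.1.1 : A → ℂ) a := by
    rintro ⟨η, b⟩ a
    cases b
    · rw [hE2]; exact hX' η a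
    · rw [hE1]; exact hX η a
  have hEinj : Function.Injective E := by
    rintro ⟨η, b⟩ ⟨η', b'⟩ heq
    have h3 : η = η' := by
      apply Subtype.ext
      apply Subtype.ext
      funext a
      have h4 := hEr (η, b) a
      have h5 := hEr (η', b') a
      rw [← heq, h4] at h5
      exact h5
    subst h3
    cases b <;> cases b'
    · rfl
    · exfalso
      have h4 := congrArg Subtype.val heq
      rw [hE1, hE2] at h4
      exact hne η h4.symm
    · exfalso
      have h4 := congrArg Subtype.val heq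
      rw [hE1, hE2] at h4
      exact hne η h4
    · rfl
  have hsum := Fintype.sum_of_injective E hEinj (fun p => ((E p).1 : W → ℂ) (i x * c) * conj (((E p).1 : W → ℂ) (i x * c)))
    (fun χ => (χ.1 : W → ℂ) (i x * c) * conj ((χ.1 : W → ℂ) (i x * c))) (by
      intro χ hχ
      by_cases h0 : (χ.1 : W → ℂ) (i x * c) = 0
      · change (χ.1 : W → ℂ) (i x * c) * _ = 0
        rw [h0, zero_mul]
      · exfalso
        rcases hres χ.1 with ⟨b1, b2⟩ | ⟨b1, -⟩
        · have h3 : (χ.1 : W → ℂ) (i x) ≠ 0 := fun h4 => h0 (e.van χ.1 χ.2 h4)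
          let η : IA j i lam x c := ⟨⟨_, b1⟩, over_res χ.1 χ.2, h3, b2⟩
          rcases huniq η χ.1 (fun t => rfl) with h4 | h4
          · exact hχ ⟨(η, true), Subtype.ext h4.symm⟩
          · exact hχ ⟨(η, false), Subtype.ext h4.symm⟩
        · exact h0 (b1 _ hxc)) (fun p => rfl)
  have hcol' := hcol
  rw [← hsum, e.card, Fintype.sum_prod_type] at hcol'
  have h3 : ∀ η : IA j i lam x c, ∑ b : Bool, ((E (η, b)).1 : W → ℂ) (i x * c) * conj (((E (η, b)).1 : W → ℂ) (i x * c)) =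
      2 * ((δ η ^ 2 : ℤ) : ℂ) := by
    intro η
    rw [Fintype.sum_bool, hE1, hE2, hneg, hδ]
    simp only [map_neg, map_mul, map_intCast]
    push_cast
    linear_combination 2 * (δ η : ℂ) ^ 2 * hm
  have h4 : ∑ η : IA j i lam x c, δ η ^ 2 = n := by
    have h5 : (Nat.card Z : ℂ) * ∑ η : IA j i lam x c, 2 * ((δ η ^ 2 : ℤ) : ℂ) = ((2 * n * Nat.card Z : ℕ) : ℂ) := by
      rw [← hcol']
      congr 1
      apply Finset.sum_congr rfl
      intro η _
      exact (h3 η).symm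
    rw [← Finset.mul_sum, ← Int.cast_sum] at h5
    have h6 : (Nat.card Z : ℂ) ≠ 0 := by
      exact_mod_cast Nat.card_pos.ne'
    have h7 : ((∑ η : IA j i lam x c, δ η ^ 2 : ℤ) : ℂ) = ((n : ℤ) : ℂ) := by
      push_cast at h5 ⊢
      apply mul_left_cancel₀ h6
      linear_combination h5 / 2
    exact_mod_cast h7
  have hwx : ∀ η, ((w η : ℤ) : ℂ) = (η.1 : A → ℂ) x := by
    intro η
    rw [← hw η, hX]
  have he : Even (δ t) := by
    have h5 : w t = 2 ∨ w t = -2 := by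
      rcases ht with h6 | h6
      · left; have := hwx t; rw [h6] at this; exact_mod_cast this
      · right; have := hwx t; rw [h6] at this; exact_mod_cast this
    obtain ⟨r, hr⟩ := hpar t
    rcases h5 with h6 | h6 <;> rw [h6] at hr
    · exact ⟨1 - r, by omega⟩
    · exact ⟨-1 - r, by omega⟩
  have ho : ∀ η, η ≠ t → Odd (δ η) := by
    intro η hη
    have h5 : w η = 1 ∨ w η = -1 := by
      rcases hother η hη with h6 | h6
      · left; have := hwx η; rw [h6] at this; exact_mod_cast this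
      · right; have := hwx η; rw [h6] at this; exact_mod_cast this
    obtain ⟨r, hr⟩ := hpar η
    rcases h5 with h6 | h6 <;> rw [h6] at hr
    · exact ⟨-r, by omega⟩
    · exact ⟨-r - 1, by omega⟩
  have hk' : Fintype.card (IA j i lam x c) = k + 1 := by rw [← hk, Nat.card_eq_fintype_card]
  obtain ⟨c1, c2⟩ := comb δ t k hk' hko hk5 he ho n h4
  rw [← Nat.card_eq_fintype_card] at c1 c2
  refine ⟨k, t, δ, hk, c1, ?_, ?_, ht, hother, hall⟩
  · intro hn
    rcases c2 hn with ⟨d1, d2⟩ | d1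
    · exact Or.inl ⟨d1, by omega, d2⟩
    · exact Or.inr d1
  · intro η χ hχ
    rcases huniq η χ hχ with h5 | h5
    · left; rw [h5, hδ]
    · right; rw [h5, hneg, hδ]

theorem two3_of (h : Pair j i) (e : Elt j i lam x c d zc m 3) (s : Six j lam x) (hres : ResCases i c)
    (hext : ExistsExt i c) (hcol : ColSelf (i.comp j) lam (i x * c)) :
    Nat.card {η : IrrCharacter A // Over j lam (η : A → ℂ) ∧ (η : A → ℂ) x ≠ 0 ∧ Inv i c (η : A → ℂ)} = 4 ∧
      ∀ χ : IrrCharacter W, Over (i.comp j) lam (χ : W → ℂ) → (χ : W → ℂ) (i x) ^ 2 = 4 →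
        (χ : W → ℂ) (i x * c) = 0 := by
  obtain ⟨k, t, δ, h1, h2, -, hv, ht, hother, hall⟩ := main_count h e s hres hext hcol
  refine ⟨(h2 rfl).1, fun χ ho h4 => ?_⟩
  have hxc := xc_notMem e
  rcases hres χ with ⟨b1, b2⟩ | ⟨b1, -⟩
  · have hx : (χ : W → ℂ) (i x) ≠ 0 := by
      intro h5
      rw [h5] at h4
      norm_num at h4
    let η : IA j i lam x c := ⟨⟨_, b1⟩, over_res χ ho, hx, b2⟩
    have hη : η = t := by
      by_contra hη
      have h8 : (χ : W → ℂ) (i x) = (η.1 : A → ℂ) x := rfl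
      rcases hother η hη with h9 | h9 <;> rw [h8, h9] at h4 <;> norm_num at h4
    rcases hv η χ (fun a => rfl) with h6 | h6
    · rw [h6, hη, (h2 rfl).2]; simp
    · rw [h6, hη, (h2 rfl).2]; simp
  · exact b1 _ hxc

theorem two9_of (h : Pair j i) (e : Elt j i lam x c d zc m 9) (s : Six j lam x) (hres : ResCases i c)
    (hext : ExistsExt i c) (hcol : ColSelf (i.comp j) lam (i x * c)) :
    (Nat.card {η : IrrCharacter A // Over j lam (η : A → ℂ) ∧ (η : A → ℂ) x ≠ 0 ∧ Inv i c (η : A → ℂ)} = 6 ∧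
      ∀ χ : IrrCharacter W, Over (i.comp j) lam (χ : W → ℂ) → (χ : W → ℂ) (i x) ≠ 0 →
        ∃ k : ℤ, (χ : W → ℂ) (i x * c) = m * k ∧ ¬ 3 ∣ k) ∨
    (Nat.card {η : IrrCharacter A // Over j lam (η : A → ℂ) ∧ (η : A → ℂ) x ≠ 0 ∧ Inv i c (η : A → ℂ)} = 2 ∧
      ∀ χ : IrrCharacter W, Over (i.comp j) lam (χ : W → ℂ) →
        ((χ : W → ℂ) (i x * c) = 0 ∨ (χ : W → ℂ) (i x * c) = 3 * m ∨ (χ : W → ℂ) (i x * c) = -(3 * m)) ∧
        (IsIrrCharacter A (fun t => (χ : W → ℂ) (i t)) → (χ : W → ℂ) (i x) ^ 2 = 1 → (χ : W → ℂ) (i x * c) ≠ 0) ∧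
        ((χ : W → ℂ) (i x) ^ 2 = 4 → (χ : W → ℂ) (i x * c) = 0)) := by
  obtain ⟨k, t, δ, h1, -, h2, hv, ht, hother, hall⟩ := main_count h e s hres hext hcol
  have hxc := xc_notMem e
  have hm0 := m_ne_zero e
  rcases h2 rfl with ⟨h3, h4, h5⟩ | ⟨h3, h4, h5⟩
  · left
    refine ⟨h3, fun χ ho hx => ?_⟩
    rcases hres χ with ⟨b1, b2⟩ | ⟨-, η, η', b2, b3, b4, b5⟩
    · let η : IA j i lam x c := ⟨⟨_, b1⟩, over_res χ ho, hx, b2⟩
      rcases hv η χ (fun a => rfl) with h6 | h6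
      · exact ⟨δ η, h6, h5 η⟩
      · exact ⟨-δ η, by rw [h6]; push_cast; ring, fun h7 => h5 η ((Int.dvd_neg).1 h7)⟩
    · exfalso
      apply b5
      have h6 : (η : A → ℂ) x = (η' : A → ℂ) x := b4 x x (by rw [e.cx, mul_inv_cancel_right])
      apply hall h4 η (over_of_red h χ ho η η' b3 b4)
      intro h7
      apply hx
      rw [b3, ← h6, h7, add_zero]
  · right
    refine ⟨h3, fun χ ho => ?_⟩
    rcases hres χ with ⟨b1, b2⟩ | ⟨b1, η, η', b2, b3, b4, b5⟩
    · by_cases hx : (χ : W → ℂ) (i x) = 0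
      · have h6 := e.van χ ho hx
        refine ⟨Or.inl h6, fun _ h7 => ?_, fun _ => h6⟩
        rw [hx] at h7
        norm_num at h7
      · let η : IA j i lam x c := ⟨⟨_, b1⟩, over_res χ ho, hx, b2⟩
        by_cases hη : η = t
        · have h6 : (χ : W → ℂ) (i x * c) = 0 := by
            rcases hv η χ (fun a => rfl) with h6 | h6
            · rw [h6, hη, h4]; simp
            · rw [h6, hη, h4]; simp
          refine ⟨Or.inl h6, fun _ h7 => ?_, fun _ => h6⟩
          exfalso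
          have h8 : (χ : W → ℂ) (i x) = (t.1 : A → ℂ) x := by rw [← hη]
          rcases ht with h9 | h9 <;> rw [h8, h9] at h7 <;> norm_num at h7
        · have h6 : (χ : W → ℂ) (i x * c) = 3 * m ∨ (χ : W → ℂ) (i x * c) = -(3 * m) := by
            rcases hv η χ (fun a => rfl) with h6 | h6 <;> rcases h5 η hη with h7 | h7 <;> rw [h6, h7]
            · left; push_cast; ring
            · right; push_cast; ring
            · right; push_cast; ring
            · left; push_cast; ring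
          refine ⟨Or.inr h6, fun _ _ => ?_, fun h7 => ?_⟩
          · rcases h6 with h6 | h6 <;> rw [h6]
            · exact mul_ne_zero (by norm_num) hm0
            · exact neg_ne_zero.2 (mul_ne_zero (by norm_num) hm0)
          · exfalso
            have h8 : (χ : W → ℂ) (i x) = (η.1 : A → ℂ) x := rfl
            rcases hother η hη with h9 | h9 <;> rw [h8, h9] at h7 <;> norm_num at h7
    · have h6 := b1 _ hxc
      refine ⟨Or.inl h6, fun hirr _ => ?_, fun _ => h6⟩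
      exfalso
      -- the restriction is not irreducible
      have hA : Finite A := Finite.of_injective i h.ii
      have hF : Nonempty (Fintype A) := ⟨Fintype.ofFinite A⟩
      obtain ⟨_⟩ := hF
      have e1 : (fun t => (χ : W → ℂ) (i t)) = (η : A → ℂ) + (η' : A → ℂ) := funext b3
      have hne : (η : A → ℂ) ≠ (η' : A → ℂ) := fun h7 => b2 (Subtype.ext h7)
      have e2 : classInner (fun t => (χ : W → ℂ) (i t)) (η : A → ℂ) = 1 := by
        rw [e1, classInner_add_left, classInner_irr_self η.2, classInner_irr_ne η'.2 η.2 hne.symm, add_zero]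
      have e3 : classInner (fun t => (χ : W → ℂ) (i t)) (η' : A → ℂ) = 1 := by
        rw [e1, classInner_add_left, classInner_irr_self η'.2, classInner_irr_ne η.2 η'.2 hne, zero_add]
      have e4 : (fun t => (χ : W → ℂ) (i t)) = (η : A → ℂ) := by
        by_contra h7
        rw [classInner_irr_ne hirr η.2 h7] at e2
        norm_num at e2
      have e5 : (fun t => (χ : W → ℂ) (i t)) = (η' : A → ℂ) := by
        by_contra h7
        rw [classInner_irr_ne hirr η'.2 h7] at e3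
        norm_num at e3
      exact hne (e4.symm.trans e5)

end Cfsg.Agent.H395.TI34
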