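import Cfsg.Agent.H395.TI34.UV
import Cfsg.Agent.H395.TI34.Comb
import Cfsg.Agent.Characters.Core

/-!
# Row `PSL₃(4)` of S4819, S4820, piece c : the number of invariant members (`two3`, `two9`)
-/

set_option autoImplicit false

namespace Cfsg.Agent.H395.TI34

open Cfsg Cfsg.Agent.H155.TI Cfsg.Agent.Characters.Central Cfsg.Agent.Characters.Core
open scoped ComplexConjugate

universe u

/-- central elements act by scalars -/
theorem irr_central {G : Type u} [Group G] (χ : IrrCharacter G) (z : G) (hz : ∀ g, z * g = g * z) (g : G) :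
    (χ : G → ℂ) (z * g) * (χ : G → ℂ) 1 = (χ : G → ℂ) z * (χ : G → ℂ) g := by
  obtain ⟨χ, k, ρ, hρ, rfl⟩ := χ
  have h1 := eq_trace_smul_of_comm ρ hρ (ρ z) (fun g => by rw [← map_mul, ← map_mul, hz])
  have h0 := char_one_ne_zero ρ hρ
  have h2 : ρ.character (z * g) = (ρ.character z / ρ.character 1) * ρ.character g := by
    change LinearMap.trace ℂ _ (ρ (z * g)) = _
    rw [map_mul, h1, smul_mul_assoc, one_mul, map_smul, smul_eq_mul]
    rfl
  change ρ.character (z * g) * ρ.character 1 = ρ.character z * ρ.character g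
  rw [h2]
  field_simp

theorem irr_one_ne {G : Type u} [Group G] (χ : IrrCharacter G) : (χ : G → ℂ) 1 ≠ 0 := by
  obtain ⟨χ, k, ρ, hρ, rfl⟩ := χ
  exact char_one_ne_zero ρ hρ

variable {Z A W : Type u} [Group Z] [Group A] [Group W] {j : Z →* A} {i : A →* W} {lam : Z →* ℂˣ}
  {x : A} {c d : W} {zc : Z} {m : ℂ} {n : ℕ}

/-- conjugation by `c` on `A` -/
theorem exists_sigma (h : Pair j i) (c : W) : ∃ σ : A ≃* A, ∀ a, i (σ a) = c * i a * c⁻¹ := by
  have hN : i.range.Normal := Subgroup.normal_of_index_eq_two h.idx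
  let E : A ≃* i.range := MonoidHom.ofInjective h.ii
  refine ⟨(E.trans (MulAut.conjNormal c)).trans E.symm, fun a => ?_⟩
  have h1 : ∀ b : i.range, i (E.symm b) = (b : W) := by
    intro b
    have h2 : E (E.symm b) = b := E.apply_symm_apply b
    exact congrArg Subtype.val h2
  change i (E.symm (MulAut.conjNormal c (E a))) = _
  rw [h1, MulAut.conjNormal_apply]
  rfl

theorem jz_central (h : Pair j i) (z : Z) (a : A) : j z * a = a * j z :=
  h.ii (by rw [map_mul, map_mul, h.cen])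

theorem over_of_ext (h : Pair j i) (χ : IrrCharacter W) (η : IrrCharacter A)
    (hη : ∀ t, (χ : W → ℂ) (i t) = (η : A → ℂ) t) (ho : Over j lam (η : A → ℂ)) :
    Over (i.comp j) lam (χ : W → ℂ) := by
  intro z w
  have h1 := irr_central χ (i (j z)) (fun g => h.cen z g) w
  have h2 : (χ : W → ℂ) (i (j z)) = (lam z : ℂ) * (χ : W → ℂ) 1 := by
    have h3 := ho z 1
    rw [mul_one, ← hη, ← hη, map_one] at h3
    exact h3
  rw [h2] at h1
  have h0 := irr_one_ne χ
  apply mul_right_cancel₀ h0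
  change (χ : W → ℂ) (i (j z) * w) * (χ : W → ℂ) 1 = _
  rw [h1]
  ring

theorem over_res (χ : IrrCharacter W) (ho : Over (i.comp j) lam (χ : W → ℂ)) :
    Over j lam (fun t => (χ : W → ℂ) (i t)) := by
  intro z a
  have h1 := ho z (i a)
  rw [← h1]
  simp

/-- the conjugate of an irreducible character of `A` -/
def cj (σ : A ≃* A) (η : IrrCharacter A) : IrrCharacter A :=
  ⟨(η : A → ℂ) ∘ σ, isIrr_comp σ.toMonoidHom σ.surjective η.2⟩

theorem cj_apply (σ : A ≃* A) (η : IrrCharacter A) (a : A) : (cj σ η : A → ℂ) a = (η : A → ℂ) (σ a) := rfl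

theorem inv_iff (h : Pair j i) {σ : A ≃* A} (hσ : ∀ a, i (σ a) = c * i a * c⁻¹) (η : IrrCharacter A) :
    Inv i c (η : A → ℂ) ↔ cj σ η = η := by
  constructor
  · intro hI
    apply Subtype.ext
    funext a
    exact hI a (σ a) (hσ a)
  · intro he a a' ha
    have h1 : a' = σ a := h.ii (by rw [ha, hσ])
    rw [h1, ← cj_apply, he]

theorem sigma_j (h : Pair j i) {σ : A ≃* A} (hσ : ∀ a, i (σ a) = c * i a * c⁻¹) (z : Z) : σ (j z) = j z :=
  h.ii (by rw [hσ, ← h.cen, mul_inv_cancel_right])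

theorem sigma_x (h : Pair j i) {σ : A ≃* A} (hσ : ∀ a, i (σ a) = c * i a * c⁻¹) (hx : c * i x = i x * c) :
    σ x = x :=
  h.ii (by rw [hσ, hx, mul_inv_cancel_right])

theorem sigma_sigma (h : Pair j i) {σ : A ≃* A} (hσ : ∀ a, i (σ a) = c * i a * c⁻¹) (hc : c * c = i (j zc)) (a : A) :
    σ (σ a) = a := by
  apply h.ii
  rw [hσ, hσ]
  have h1 : c * (c * i a * c⁻¹) * c⁻¹ = (c * c) * i a * (c * c)⁻¹ := by group
  rw [h1, hc, h.cen, mul_inv_cancel_right]

theorem over_cj (h : Pair j i) {σ : A ≃* A} (hσ : ∀ a, i (σ a) = c * i a * c⁻¹) (η : IrrCharacter A)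
    (ho : Over j lam (η : A → ℂ)) : Over j lam (cj σ η : A → ℂ) := by
  intro z a
  rw [cj_apply, cj_apply, map_mul, sigma_j h hσ, ho]

theorem cj_cj (h : Pair j i) {σ : A ≃* A} (hσ : ∀ a, i (σ a) = c * i a * c⁻¹) (hc : c * c = i (j zc))
    (η : IrrCharacter A) : cj σ (cj σ η) = η := by
  apply Subtype.ext
  funext a
  rw [cj_apply, cj_apply, sigma_sigma h hσ hc]

/-- the non-invariant constituents of a character over `lam` -/
theorem over_of_red (h : Pair j i) (χ : IrrCharacter W) (ho : Over (i.comp j) lam (χ : W → ℂ)) (η η' : IrrCharacter A)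
    (h1 : ∀ t, (χ : W → ℂ) (i t) = (η : A → ℂ) t + (η' : A → ℂ) t)
    (h2 : ∀ t t', i t' = c * i t * c⁻¹ → (η : A → ℂ) t' = (η' : A → ℂ) t) :
    Over j lam (η : A → ℂ) := by
  intro z a
  have hz : (η : A → ℂ) (j z) = (η' : A → ℂ) (j z) := h2 _ _ (by rw [← h.cen, mul_inv_cancel_right])
  have h11 : (η : A → ℂ) 1 = (η' : A → ℂ) 1 := h2 _ _ (by simp)
  have h3 := irr_central η (j z) (fun g => jz_central h z g) a
  have h0 := irr_one_ne η
  have h4 : (η : A → ℂ) (j z) = (lam z : ℂ) * (η : A → ℂ) 1 := by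
    have h5 := ho z 1
    rw [mul_one, ← map_one i, h1 1] at h5
    have h6 : (χ : W → ℂ) ((i.comp j) z) = (η : A → ℂ) (j z) + (η' : A → ℂ) (j z) := h1 (j z)
    rw [h6, ← hz, ← h11] at h5
    linear_combination h5 / 2
  rw [h4] at h3
  apply mul_right_cancel₀ h0
  rw [h3]
  ring

/-! ### The count on the level of `A` -/

/-- the invariant members not vanishing at `x` -/
abbrev IA (j : Z →* A) (i : A →* W) (lam : Z →* ℂˣ) (x : A) (c : W) : Type u :=
  {η : IrrCharacter A // Over j lam (η : A → ℂ) ∧ (η : A → ℂ) x ≠ 0 ∧ Inv i c (η : A → ℂ)}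

theorem vals (s : Six j lam x) (η : IrrCharacter A) (ho : Over j lam (η : A → ℂ)) (hx : (η : A → ℂ) x ≠ 0) :
    ((η : A → ℂ) x = 1 ∨ (η : A → ℂ) x = -1) ∨ ((η : A → ℂ) x = 2 ∨ (η : A → ℂ) x = -2) := by
  obtain ⟨w, hw, hl⟩ := s.int η ho
  rw [hw] at hx ⊢
  have hw0 : w ≠ 0 := by rintro rfl; simp at hx
  obtain ⟨h1, h2⟩ := abs_le.1 hl
  have h3 : w = 1 ∨ w = -1 ∨ w = 2 ∨ w = -2 := by omega
  rcases h3 with rfl | rfl | rfl | rfl
  · left; left; norm_num
  · left; right; norm_num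
  · right; left; norm_num
  · right; right; norm_num

theorem count_A [Finite A] (h : Pair j i) (hcx : c * i x = i x * c) (hcc : c * c = i (j zc)) (s : Six j lam x) :
    ∃ (k : ℕ) (t : IA j i lam x c), Nat.card (IA j i lam x c) = k + 1 ∧ Odd k ∧ k ≤ 5 ∧
      ((t.1 : A → ℂ) x = 2 ∨ (t.1 : A → ℂ) x = -2) ∧
      (∀ η : IA j i lam x c, η ≠ t → (η.1 : A → ℂ) x = 1 ∨ (η.1 : A → ℂ) x = -1) ∧
      (k = 5 → ∀ η : IrrCharacter A, Over j lam (η : A → ℂ) → (η : A → ℂ) x ≠ 0 → Inv i c (η : A → ℂ)) := by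
  classical
  obtain ⟨σ, hσ⟩ := exists_sigma h c
  have hx := sigma_x h hσ hcx
  haveI : Finite (IrrCharacter A) := finite_irr
  letI : Fintype (IrrCharacter A) := Fintype.ofFinite _
  -- the member `t`
  obtain ⟨hsub, hne⟩ := Nat.card_eq_one_iff_unique.1 s.one
  obtain ⟨t, ht, htx⟩ := hne.some
  have htI : Inv i c (t : A → ℂ) := by
    rw [inv_iff h hσ]
    have h1 : (⟨cj σ t, over_cj h hσ t ht, by rw [cj_apply, hx]; exact htx⟩ :
        {η : IrrCharacter A // Over j lam (η : A → ℂ) ∧ ((η : A → ℂ) x = 2 ∨ (η : A → ℂ) x = -2)}) = ⟨t, ht, htx⟩ :=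
      Subsingleton.elim _ _
    exact congrArg Subtype.val h1
  have htx0 : (t : A → ℂ) x ≠ 0 := by
    rcases htx with h1 | h1 <;> rw [h1] <;> norm_num
  have huniq : ∀ η : IrrCharacter A, Over j lam (η : A → ℂ) → ((η : A → ℂ) x = 2 ∨ (η : A → ℂ) x = -2) → η = t := by
    intro η h1 h2
    have h3 : (⟨η, h1, h2⟩ : {η : IrrCharacter A // Over j lam (η : A → ℂ) ∧
      ((η : A → ℂ) x = 2 ∨ (η : A → ℂ) x = -2)}) = ⟨t, ht, htx⟩ := Subsingleton.elim _ _
    exact congrArg Subtype.val h3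
  set SI : Finset (IrrCharacter A) := Finset.univ.filter (fun η : IrrCharacter A =>
    Over j lam (η : A → ℂ) ∧ (η : A → ℂ) x ≠ 0 ∧ Inv i c (η : A → ℂ)) with hSI
  set SO : Finset (IrrCharacter A) := Finset.univ.filter (fun η : IrrCharacter A =>
    Over j lam (η : A → ℂ) ∧ ((η : A → ℂ) x = 1 ∨ (η : A → ℂ) x = -1) ∧ Inv i c (η : A → ℂ)) with hSO
  set SF : Finset (IrrCharacter A) := Finset.univ.filter (fun η : IrrCharacter A =>
    Over j lam (η : A → ℂ) ∧ ((η : A → ℂ) x = 1 ∨ (η : A → ℂ) x = -1)) with hSF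
  have hcI : Nat.card (IA j i lam x c) = SI.card := by
    rw [Nat.card_eq_fintype_card, Fintype.card_subtype]
  have hcF : SF.card = 5 := by
    rw [← s.five, Nat.card_eq_fintype_card, Fintype.card_subtype]
  have hISO : SI = insert t SO := by
    ext η
    simp only [hSI, hSO, Finset.mem_filter, Finset.mem_univ, true_and, Finset.mem_insert]
    constructor
    · rintro ⟨h1, h2, h3⟩
      rcases vals s η h1 h2 with h4 | h4
      · exact Or.inr ⟨h1, h4, h3⟩
      · exact Or.inl (huniq η h1 h4)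
    · rintro (rfl | ⟨h1, h2, h3⟩)
      · exact ⟨ht, htx0, htI⟩
      · exact ⟨h1, by rcases h2 with h4 | h4 <;> rw [h4] <;> norm_num, h3⟩
  have htSO : t ∉ SO := by
    intro h1
    rcases (Finset.mem_filter.1 h1).2.2.1 with h2 | h2 <;> rcases htx with h3 | h3 <;> rw [h3] at h2 <;> norm_num at h2
  have hcard : SI.card = SO.card + 1 := by rw [hISO, Finset.card_insert_of_notMem htSO]
  have hOF : SO ⊆ SF := by
    intro η h1
    obtain ⟨h2, h3, h4, h5⟩ := Finset.mem_filter.1 h1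
    exact Finset.mem_filter.2 ⟨h2, h3, h4⟩
  have hodd : Odd SO.card := by
    -- the involution on `SF`
    let O := {η : IrrCharacter A // Over j lam (η : A → ℂ) ∧ ((η : A → ℂ) x = 1 ∨ (η : A → ℂ) x = -1)}
    let f : Function.End O := fun o => ⟨cj σ o.1, over_cj h hσ o.1 o.2.1, by rw [cj_apply, hx]; exact o.2.2⟩
    have hf : f ^ 2 ^ 1 = 1 := by
      rw [pow_one, sq]
      funext o
      apply Subtype.ext
      exact cj_cj h hσ hcc o.1
    letI : Fintype O := Fintype.ofFinite _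
    have h1 := Equiv.Perm.card_fixedPoints_modEq (p := 2) (n := 1) hf
    have h2 : Fintype.card O = 5 := by rw [← s.five, Nat.card_eq_fintype_card]
    have h3 : Fintype.card f.fixedPoints = SO.card := by
      rw [← Nat.card_eq_fintype_card]
      have e1 : f.fixedPoints ≃ SO :=
        { toFun := fun o => ⟨o.1.1, Finset.mem_filter.2 ⟨Finset.mem_univ _, o.1.2.1, o.1.2.2,
            (inv_iff h hσ _).2 (congrArg Subtype.val o.2)⟩⟩
          invFun := fun η => ⟨⟨η.1, (Finset.mem_filter.1 η.2).2.1, (Finset.mem_filter.1 η.2).2.2.1⟩,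
            Subtype.ext ((inv_iff h hσ η.1).1 (Finset.mem_filter.1 η.2).2.2.2)⟩
          left_inv := fun o => rfl
          right_inv := fun o => rfl }
      rw [Nat.card_congr e1, Nat.card_eq_fintype_card, Fintype.card_coe]
    rw [h2, h3] at h1
    rw [Nat.odd_iff]
    exact h1.symm
  refine ⟨SO.card, ⟨t, ht, htx0, htI⟩, by rw [hcI, hcard], hodd, by rw [← hcF]; exact Finset.card_le_card hOF, htx, ?_,
    ?_⟩
  · intro η hη
    rcases vals s η.1 η.2.1 η.2.2.1 with h4 | h4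
    · exact h4
    · exact absurd (Subtype.ext (huniq η.1 η.2.1 h4)) hη
  · intro h5 η h1 h2
    have h6 : SO = SF := Finset.eq_of_subset_of_card_le hOF (by rw [hcF, h5])
    rcases vals s η h1 h2 with h4 | h4
    · have h7 : η ∈ SO := by rw [h6]; exact Finset.mem_filter.2 ⟨Finset.mem_univ _, h1, h4⟩
      exact (Finset.mem_filter.1 h7).2.2.2
    · rw [huniq η h1 h4]; exact htI

end Cfsg.Agent.H395.TI34
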